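import Groth.Agent.RelTilde.Local
import Groth.Agent.RelTilde.TensorRing
import Groth.Agent.GrT.TwistEpi
import Groth.Agent.TMul.RelAmple
import Groth.Agent.TMul.AmpleBasis

/-! Ampleness of `O(d)` on a relative `Proj`. -/

set_option autoImplicit false
set_option backward.isDefEq.respectTransparency false
set_option linter.style.haveILetI false

universe u

open CategoryTheory CategoryTheory.Limits DirectSum TopologicalSpace AlgebraicGeometry Opposite
open scoped HomogeneousIdeal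
open Groth.Agent.QC (res resO res_res res_self)
open Groth.Agent.RelTilde

noncomputable section

namespace Groth.Agent.RelTwistAmple

section Abs

variable {A σ : Type u} [CommRing A] [SetLike σ A] [AddSubgroupClass σ A] {𝒜 : ℕ → σ} [GradedRing 𝒜]

lemma one_not_mem (x : ProjectiveSpectrum 𝒜) : (1 : A) ∉ x.asHomogeneousIdeal := fun h =>
  x.isPrime.ne_top ((Ideal.eq_top_iff_one _).mpr h)

/-- the global section `f / 1` of `O(d)` -/
def degSec {d : ℕ} {f : A} (hf : f ∈ 𝒜 d) : Γ(GrMod.tilde 𝒜 𝒜 (d : ℤ), ⊤) :=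
  fracSect 𝒜 𝒜 (d : ℤ) hf (SetLike.GradedOne.one_mem (A := 𝒜)) (by simp) ⊤ fun y => one_not_mem y.1

/-- `f / 1` generates on `D₊(f)` -/
lemma isGen_degSec {d : ℕ} {f : A} (hf : f ∈ 𝒜 d) :
    TMul.IsGen (res (GrMod.tilde 𝒜 𝒜 (d : ℤ)) (le_top : Proj.basicOpen 𝒜 f ≤ ⊤) (degSec hf)) :=
  twistGen_bijective 𝒜 hf (SetLike.GradedOne.one_mem (A := 𝒜)) (by simp) le_rfl
    (le_top.trans (Proj.basicOpen_one 𝒜).ge)

/-- where `f / 1` generates, `f` does not vanish -/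
lemma mem_of_isGen {d : ℕ} {f g : A} (hf : f ∈ 𝒜 d) (hg : g ∈ 𝒜 d) {x : Proj 𝒜}
    (hgx : g ∉ x.asHomogeneousIdeal) {W : (Proj 𝒜).Opens} (hxW : x ∈ W)
    (hgen : TMul.IsGen (res (GrMod.tilde 𝒜 𝒜 (d : ℤ)) (le_top : W ≤ ⊤) (degSec hf))) :
    x ∈ Proj.basicOpen 𝒜 f := by
  refine (ProjectiveSpectrum.mem_basicOpen 𝒜 f x).mpr fun hfx => ?_
  let V := W ⊓ Proj.basicOpen 𝒜 g
  obtain ⟨c, hc⟩ := (hgen V inf_le_left).2 (res _ le_top (degSec hg))
  let y : V := ⟨x, hxW, (ProjectiveSpectrum.mem_basicOpen 𝒜 g x).mpr hgx⟩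
  rw [res_res] at hc
  have h1 := congrArg (fun w => pt 𝒜 𝒜 w y) hc
  simp only [pt_smul] at h1
  obtain ⟨⟨k, ⟨a, ha⟩, ⟨t, ht⟩, htx⟩, hct⟩ :=
    HomogeneousLocalization.mk_surjective ((c : GrTwist.O (𝒜 := 𝒜) (op V)).1 y)
  rw [← hct, HomogeneousLocalization.val_mk] at h1
  have h2 : (Localization.mk a ⟨t, htx⟩ : GrTwist.Loc 𝒜 x) •
      fr 𝒜 x f 1 (one_not_mem x) = fr 𝒜 x g 1 (one_not_mem x) := h1
  rw [loc_smul_fr, fr_eq_iff] at h2
  obtain ⟨v, hv, h3⟩ := h2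
  simp only [mul_one, smul_eq_mul, one_mul, mul_sub, sub_eq_zero] at h3
  exact not_mem_mul 𝒜 hv (not_mem_mul 𝒜 htx hgx)
    (h3 ▸ Ideal.mul_mem_left _ _ (Ideal.mul_mem_left _ _ hfx))

theorem isAmple_tilde_of_cover [CompactSpace (Proj 𝒜)] {d : ℕ} (hd : 0 < d)
    (hcov : ∀ x : ProjectiveSpectrum 𝒜, ∃ g ∈ 𝒜 d, g ∉ x.asHomogeneousIdeal) :
    CohB1.IsAmple (GrMod.tilde 𝒜 𝒜 (d : ℤ)) := by
  let M := GrMod.tilde 𝒜 𝒜 (d : ℤ)
  refine ⟨InvGen.isInvertible fun x => ?_, inferInstance, fun x => ?_⟩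
  · obtain ⟨g, hg, hgx⟩ := hcov x
    exact ⟨Proj.basicOpen 𝒜 g, res M le_top (degSec hg),
      (ProjectiveSpectrum.mem_basicOpen 𝒜 g x).mpr hgx, isGen_degSec hg⟩
  · obtain ⟨f, hf, hfx⟩ := hcov x
    let s := GrT.homOfSection M (degSec hf)
    have hval : ∀ W : (Proj 𝒜).Opens, TMul.val s W = res M (le_top : W ≤ ⊤) (degSec hf) := fun W =>
      (GrT.homOfSection_app _ _ W 1).trans (one_smul _ _)
    have hloc : CohB1.genLocus M s = Proj.basicOpen 𝒜 f := by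
      refine le_antisymm (fun y hy => ?_) (TMul.le_genLocus _ ?_)
      · obtain ⟨g, hg, hgy⟩ := hcov y
        obtain ⟨W, hyW, hW⟩ := (TMul.mem_genLocus_iff s).mp hy
        refine mem_of_isGen hf hg hgy hyW ?_
        rw [← hval]
        exact hW
      · rw [hval]
        exact isGen_degSec hf
    refine ⟨0, s ≫ (TMul.leftUnitIso M).inv, ?_, ?_⟩
    · rw [TMul.genLocus_comp, hloc]
      exact (ProjectiveSpectrum.mem_basicOpen 𝒜 f x).mpr hfx
    · rw [TMul.genLocus_comp, hloc]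
      exact Proj.isAffineOpen_basicOpen 𝒜 f hf hd

end Abs

section Rel

variable {Y : Scheme.{u}} (𝒮 : RelProj.QCGrAlg Y)

/-- finitely many homogeneous elements of positive degree cover each affine chart -/
theorem exists_cover (U : Y.Opens) (hU : IsAffineOpen U) (hft : (𝒮.str.app (op U)).hom.FiniteType) :
    ∃ G : Finset (ℕ × 𝒮.presheaf.obj (op U)),
      (∀ g ∈ G, 0 < g.1 ∧ g.2 ∈ 𝒮.deg U hU g.1) ∧
      ∀ x : ProjectiveSpectrum (𝒮.deg U hU), ∃ g ∈ G, g.2 ∉ x.asHomogeneousIdeal := by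
  classical
  let str := (𝒮.str.app (op U)).hom
  letI := str.toAlgebra
  obtain ⟨T, hT⟩ := hft.out
  let 𝒜 := 𝒮.deg U hU
  let G : Finset (ℕ × 𝒮.presheaf.obj (op U)) := T.biUnion fun t =>
    ((decompose 𝒜 t).support.filter (0 < ·)).image fun i => (i, (decompose 𝒜 t i : 𝒮.presheaf.obj (op U)))
  refine ⟨G, fun g hg => ?_, fun x => ?_⟩
  · obtain ⟨t, -, hg⟩ := Finset.mem_biUnion.mp hg
    obtain ⟨i, hi, rfl⟩ := Finset.mem_image.mp hg
    exact ⟨(Finset.mem_filter.mp hi).2, (decompose 𝒜 t i).2⟩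
  · by_contra hc
    push Not at hc
    let π := Ideal.Quotient.mk x.asHomogeneousIdeal.toIdeal
    let K := RingHom.eqLocus π (π.comp (GradedRing.projZeroRingHom 𝒜))
    have hK : (Algebra.adjoin Γ(Y, U) (T : Set (𝒮.presheaf.obj (op U)))).toSubring ≤ K := by
      rw [Algebra.adjoin_eq_ring_closure, Subring.closure_le]
      rintro a (⟨r, rfl⟩ | ha)
      · change π (str r) = π (decompose 𝒜 (str r) 0 : 𝒮.presheaf.obj (op U))
        rw [decompose_of_mem_same 𝒜 (𝒮.str_mem U hU r)]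
      · change π a = π (decompose 𝒜 a 0 : 𝒮.presheaf.obj (op U))
        conv_lhs => rw [← DirectSum.sum_support_decompose 𝒜 a, map_sum]
        refine (Finset.sum_eq_single 0 (fun i hi h0 => ?_) fun h => ?_)
        · refine Ideal.Quotient.eq_zero_iff_mem.mpr (hc (i, _) ?_)
          exact Finset.mem_biUnion.mpr ⟨a, ha, Finset.mem_image.mpr
            ⟨i, Finset.mem_filter.mpr ⟨hi, Nat.pos_of_ne_zero h0⟩, rfl⟩⟩
        · rw [DFinsupp.notMem_support_iff.mp h]; simp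
    obtain ⟨e, f, he, hf, hfx⟩ := exists_pos_homog 𝒜 x
    have h1 : π f = π (decompose 𝒜 f 0 : 𝒮.presheaf.obj (op U)) :=
      hK (by rw [Algebra.adjoin] at hT; rw [Algebra.adjoin, hT]; trivial)
    rw [decompose_of_mem_ne 𝒜 hf (by omega), map_zero] at h1
    exact hfx (Ideal.Quotient.eq_zero_iff_mem.mp h1)

/-- the charts of a finite-type relative `Proj` are quasi-compact -/
theorem compactSpace_proj (U : Y.Opens) (hU : IsAffineOpen U) (hft : (𝒮.str.app (op U)).hom.FiniteType) :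
    CompactSpace (Proj (𝒮.deg U hU)) := by
  obtain ⟨G, hG, hcov⟩ := exists_cover 𝒮 U hU hft
  refine ⟨?_⟩
  have e : (Set.univ : Set (Proj (𝒮.deg U hU))) =
      ⋃ g ∈ G, (Proj.basicOpen (𝒮.deg U hU) g.2 : Set (Proj (𝒮.deg U hU))) := by
    refine (Set.eq_univ_of_forall fun x => ?_).symm
    obtain ⟨g, hg, hgx⟩ := hcov x
    exact Set.mem_iUnion₂.mpr ⟨g, hg, (ProjectiveSpectrum.mem_basicOpen _ _ _).mpr hgx⟩
  rw [e]
  exact G.isCompact_biUnion fun g hg =>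
    (Proj.isAffineOpen_basicOpen (𝒮.deg U hU) g.2 (hG g hg).2 (hG g hg).1).isCompact

variable {X : Scheme.{u}} {f : X ⟶ Y}
  {chart : ∀ (U : Y.Opens) (hU : IsAffineOpen U), ((f ⁻¹ᵁ U : X.Opens) : Scheme.{u}) ≅ Proj (𝒮.deg U hU)}

include chart in
theorem quasiCompact (hft : ∀ (U : Y.Opens), IsAffineOpen U → (𝒮.str.app (op U)).hom.FiniteType) :
    QuasiCompact f := by
  refine quasiCompact_iff_forall_isAffineOpen.mpr fun U hU => ?_
  haveI := compactSpace_proj 𝒮 U hU (hft U hU)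
  haveI := (chart U hU).inv.homeomorph.compactSpace
  exact isCompact_iff_compactSpace.mpr (show CompactSpace ((f ⁻¹ᵁ U : X.Opens) : Scheme.{u}) from inferInstance)

theorem exists_ample_twist [CompactSpace Y]
    (hft : ∀ (U : Y.Opens), IsAffineOpen U → (𝒮.str.app (op U)).hom.FiniteType) :
    ∃ d : ℕ, 0 < d ∧ ∀ (L : X.Modules)
      (lam : ∀ (U : Y.Opens) (hU : IsAffineOpen U),
        L ⟶ (Scheme.Modules.pushforward (RelProj.emb f chart U hU)).obj (GrTwist.twist (𝒮.deg U hU) (d : ℤ))),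
      RelProj.IsRelTwist 𝒮 f chart (d : ℤ) L lam → PicF.IsInvertible L ∧ RelAmple.IsRelAmple f L := by
  classical
  obtain ⟨s, hs⟩ := isCompact_univ.elim_finite_subcover (fun U : Y.affineOpens => (U.1 : Set Y))
    (fun U => U.1.2) (fun y _ => by
      obtain ⟨U, hU, hyU, -⟩ := exists_isAffineOpen_mem_and_subset (x := y) (U := ⊤) trivial
      exact Set.mem_iUnion.mpr ⟨⟨U, hU⟩, hyU⟩)
  choose G hG hcov using fun U : Y.affineOpens => exists_cover 𝒮 U.1 U.2 (hft U.1 U.2)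
  let d := ∏ U ∈ s, ∏ g ∈ G U, g.1
  have hd : 0 < d := Finset.prod_pos fun U _ => Finset.prod_pos fun g hg => (hG U g hg).1
  refine ⟨d, hd, fun L lam hL => ?_⟩
  have hL' := (RelTilde.isRelTwist_iff 𝒮 (d : ℤ) L lam).mp hL
  haveI := quasiCompact 𝒮 (chart := chart) hft
  have key : ∀ U ∈ s, CohB1.IsAmple (L.restrict (f ⁻¹ᵁ U.1).ι) := fun U hU => by
    haveI := compactSpace_proj 𝒮 U.1 U.2 (hft U.1 U.2)
    have hamp := isAmple_tilde_of_cover (𝒜 := 𝒮.deg U.1 U.2) hd fun x => by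
      obtain ⟨g, hg, hgx⟩ := hcov U x
      obtain ⟨q, hq⟩ : g.1 ∣ d := (Finset.dvd_prod_of_mem _ hg).trans
        (Finset.dvd_prod_of_mem (fun U => ∏ g ∈ G U, g.1) hU)
      refine ⟨g.2 ^ q, ?_, not_mem_pow _ hgx q⟩
      rw [hq, mul_comm]
      exact SetLike.pow_mem_graded q (hG U g hg).2
    obtain ⟨e⟩ := nonempty_restrict_iso (RelProj.emb f chart U.1 U.2) (lam U.1 U.2) (hL'.bijective' U.1 U.2)
    obtain ⟨e'⟩ := TMul.nonempty_restrictRestrictIso (RelProj.emb f chart U.1 U.2) (𝟙 _) _ (Category.id_comp _) L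
    have h2 := TMul.isAmple_congr e.symm hamp
    haveI := (chart U.1 U.2).inv.homeomorph.compactSpace
    have hk : (chart U.1 U.2).hom ≫ RelProj.emb f chart U.1 U.2 = (f ⁻¹ᵁ U.1).ι := by
      simp [RelProj.emb]
    obtain ⟨e''⟩ := TMul.nonempty_restrictRestrictIso (RelProj.emb f chart U.1 U.2) (chart U.1 U.2).hom _ hk L
    exact TMul.isAmple_congr e'' (TMul.isAmple_restrict (chart U.1 U.2).hom h2)
  have hinv : PicF.IsInvertible L := by
    refine InvGen.isInvertible fun x => ?_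
    obtain ⟨U, hU, hxU⟩ := Set.mem_iUnion₂.mp (hs (Set.mem_univ (f.base x)))
    obtain ⟨y, rfl⟩ := exists_point (q := f) (ch := chart) U.1 U.2 (x := x) hxU
    obtain ⟨g, hg, hgx⟩ := hcov U y
    obtain ⟨e, he⟩ := RelTilde.exists_gen_basicOpen hL' U.2 (hG U g hg).2
      (Int.natCast_dvd_natCast.mpr ((Finset.dvd_prod_of_mem _ hg).trans
        (Finset.dvd_prod_of_mem (fun U => ∏ g ∈ G U, g.1) hU)))
    exact ⟨_, e, ⟨y, (ProjectiveSpectrum.mem_basicOpen _ _ _).mpr hgx, rfl⟩, he⟩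
  refine ⟨hinv, TMul.isRelAmple_of_exists hinv fun y => ?_⟩
  obtain ⟨U, hU, hyU⟩ := Set.mem_iUnion₂.mp (hs (Set.mem_univ y))
  exact ⟨U.1, hyU, key U hU⟩

end Rel

end Groth.Agent.RelTwistAmple
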