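import Groth.Agent.RelTwistAmple.Basic
import Groth.Agent.RelTilde.Tensor
import Groth.Agent.RelTilde.Exists
import Groth.Agent.TMul.RelAmpleCrit

/-! `O(1)` for an algebra generated by a finite-type piece in degree one. -/

set_option autoImplicit false
set_option backward.isDefEq.respectTransparency false
set_option linter.style.haveILetI false

universe u

open CategoryTheory CategoryTheory.Limits DirectSum TopologicalSpace AlgebraicGeometry Opposite
open scoped HomogeneousIdeal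
open Groth.Agent.RelTilde

noncomputable section

namespace Groth.Agent.RelTwistAmple

variable {Y P : Scheme.{u}} {𝒮 : RelProj.QCGrAlg Y} {p : P ⟶ Y}
  {chart : ∀ (U : Y.Opens) (hU : IsAffineOpen U), ((p ⁻¹ᵁ U : P.Opens) : Scheme.{u}) ≅ Proj (𝒮.deg U hU)}

theorem compactSpace_proj_one (hgen : 𝒮.IsGenDegOne) (hft : 𝒮.IsFTDeg 1) (U : Y.Opens)
    (hU : IsAffineOpen U) : CompactSpace (Proj (𝒮.deg U hU)) := by
  obtain ⟨T, hT, hspan⟩ := hft U hU
  refine ⟨?_⟩
  have e : (Set.univ : Set (Proj (𝒮.deg U hU))) =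
      ⋃ t ∈ T, (Proj.basicOpen (𝒮.deg U hU) t : Set (Proj (𝒮.deg U hU))) := by
    refine (Set.eq_univ_of_forall fun x => ?_).symm
    obtain ⟨g, hg, hgx⟩ := exists_deg_one_not_mem (𝒮.deg U hU) (hgen U hU) x
    by_contra hc
    simp only [Set.mem_iUnion, not_exists] at hc
    obtain ⟨c, rfl⟩ := hspan g hg
    refine hgx (sum_mem fun t ht => Ideal.mul_mem_left _ _ ?_)
    by_contra htx
    exact hc t ht ((ProjectiveSpectrum.mem_basicOpen _ _ _).mpr htx)
  rw [e]
  exact T.isCompact_biUnion fun t ht =>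
    (Proj.isAffineOpen_basicOpen (𝒮.deg U hU) t (hT ht) one_pos).isCompact

include chart in
theorem quasiCompact_one (hgen : 𝒮.IsGenDegOne) (hft : 𝒮.IsFTDeg 1) : QuasiCompact p := by
  refine quasiCompact_iff_forall_isAffineOpen.mpr fun U hU => ?_
  haveI := compactSpace_proj_one hgen hft U hU
  haveI := (chart U hU).inv.homeomorph.compactSpace
  exact isCompact_iff_compactSpace.mpr
    (show CompactSpace ((p ⁻¹ᵁ U : P.Opens) : Scheme.{u}) from inferInstance)

variable (hP : RelProj.IsRelProj 𝒮 p chart) (hgen : 𝒮.IsGenDegOne) (hft : 𝒮.IsFTDeg 1)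

include hgen hft in
theorem isRelAmple_twist_one {L : P.Modules}
    {lam : ∀ (U : Y.Opens) (hU : IsAffineOpen U), L ⟶ (Datum.self 𝒮).E p chart 1 U hU}
    (hL : (Datum.self 𝒮).IsTilde p chart 1 L lam) : RelAmple.IsRelAmple p L := by
  haveI := quasiCompact_one (chart := chart) hgen hft
  refine TMul.isRelAmple_of_exists (RelTilde.isInvertible_of_isGenDegOne hL hgen) fun y => ?_
  obtain ⟨U, hU, hyU, -⟩ := exists_isAffineOpen_mem_and_subset (x := y) (U := ⊤) trivial
  refine ⟨U, hyU, ?_⟩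
  haveI := compactSpace_proj_one hgen hft U hU
  have hamp := isAmple_tilde_of_cover (𝒜 := 𝒮.deg U hU) one_pos fun x =>
    exists_deg_one_not_mem (𝒮.deg U hU) (hgen U hU) x
  obtain ⟨e⟩ := nonempty_restrict_iso (RelProj.emb p chart U hU) (lam U hU) (hL.bijective' U hU)
  haveI := (chart U hU).inv.homeomorph.compactSpace
  have hk : (chart U hU).hom ≫ RelProj.emb p chart U hU = (p ⁻¹ᵁ U).ι := by
    simp [RelProj.emb]
  obtain ⟨e'⟩ := TMul.nonempty_restrictRestrictIso (RelProj.emb p chart U hU) (chart U hU).hom _ hk L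
  exact TMul.isAmple_congr e' (TMul.isAmple_restrict (chart U hU).hom (TMul.isAmple_congr e.symm hamp))

include hP hgen in
theorem nonempty_pow_iso {L : P.Modules}
    {lam : ∀ (U : Y.Opens) (hU : IsAffineOpen U), L ⟶ (Datum.self 𝒮).E p chart 1 U hU}
    (hL : (Datum.self 𝒮).IsTilde p chart 1 L lam) : ∀ (n : ℕ) {M : P.Modules}
    {lamM : ∀ (U : Y.Opens) (hU : IsAffineOpen U), M ⟶ (Datum.self 𝒮).E p chart (n : ℤ) U hU},
      (Datum.self 𝒮).IsTilde p chart (n : ℤ) M lamM → Nonempty (CohB1.tensorPow L n ≅ M)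
  | 0, M, lamM, hM => (nonempty_twistZero_iso hP hM).map Iso.symm
  | n + 1, M, lamM, hM => by
    obtain ⟨N, lamN, hN⟩ := Datum.exists_isTilde (D := Datum.self 𝒮) (n := (n : ℤ)) hP
    obtain ⟨e⟩ := nonempty_pow_iso hL n hN
    obtain ⟨e'⟩ := nonempty_tensor_iso hP (show (n : ℤ) + 1 = ((n + 1 : ℕ) : ℤ) by push_cast; rfl)
      hN hL hM hgen
    exact ⟨PicGrp.tensorModIso e (Iso.refl L) ≪≫ e'⟩

include hP hgen hft in
theorem exists_epi_counit [CompactSpace Y] (F : P.Modules) (hFq : Coh.IsQCoh F) (hFt : CohB1.IsFT F) :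
    ∃ n₀ : ℤ, ∀ (n : ℤ), n₀ ≤ n → ∀ (L : P.Modules)
      (lam : ∀ (U : Y.Opens) (hU : IsAffineOpen U),
      L ⟶ (Scheme.Modules.pushforward (RelProj.emb p chart U hU)).obj (GrTwist.twist (𝒮.deg U hU) n)),
      RelProj.IsRelTwist 𝒮 p chart n L lam →
        Epi ((Scheme.Modules.pullbackPushforwardAdjunction p).counit.app (CohB1.tensorMod F L)) := by
  haveI := quasiCompact_one (chart := chart) hgen hft
  haveI : CompactSpace P := QuasiCompact.compactSpace_of_compactSpace p
  haveI : F.IsQuasicoherent := hFq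
  obtain ⟨O1, lam1, h1⟩ := Datum.exists_isTilde (D := Datum.self 𝒮) (n := (1 : ℤ)) hP
  obtain ⟨n₀, -, hn₀⟩ := TMul.exists_forall_epi_counit p (isRelAmple_twist_one hgen hft h1) hFt
  refine ⟨n₀, fun n hn L lam hL => ?_⟩
  obtain ⟨m, rfl⟩ := Int.eq_ofNat_of_zero_le (le_trans (Int.natCast_nonneg n₀) hn)
  obtain ⟨e⟩ := nonempty_pow_iso hP hgen h1 m ((RelTilde.isRelTwist_iff 𝒮 (m : ℤ) L lam).mp hL)
  haveI := hn₀ m (by exact_mod_cast hn)
  let i := PicGrp.tensorModIso (Iso.refl F) e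
  have hnat := (Scheme.Modules.pullbackPushforwardAdjunction p).counit.naturality i.hom
  refine epi_of_epi_fac (f := ((Scheme.Modules.pushforward p) ⋙ Scheme.Modules.pullback p).map i.hom)
    (h := (Scheme.Modules.pullbackPushforwardAdjunction p).counit.app _ ≫ i.hom) ?_
  exact hnat

end Groth.Agent.RelTwistAmple
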