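import Groth.Agent.RelTwistAmple.DegOne
import Groth.Agent.TMul.FTQuot
import Groth.Agent.TMul.RelAmpleOps
import Groth.Agent.TMul.Assoc
import Groth.Agent.ResDesc.Main

/-! Quotients `p^*G(-n) → F`. -/

set_option autoImplicit false
set_option backward.isDefEq.respectTransparency false
set_option linter.style.haveILetI false

universe u

open CategoryTheory CategoryTheory.Limits DirectSum TopologicalSpace AlgebraicGeometry Opposite
open scoped HomogeneousIdeal
open Groth.Agent.RelTilde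

noncomputable section

namespace Groth.Agent.RelTwistAmple

theorem exists_quotient {Y P : Scheme.{u}} (𝒮 : RelProj.QCGrAlg Y) (p : P ⟶ Y)
    (chart : ∀ (U : Y.Opens) (hU : IsAffineOpen U), (((p ⁻¹ᵁ U : P.Opens) : Scheme.{u}) ≅ Proj (𝒮.deg U hU)))
    (hP : RelProj.IsRelProj 𝒮 p chart)
    (hY : (CompactSpace Y ∧ Y.IsSeparated) ∨ NoetherianSpace Y) (hgen : 𝒮.IsGenDegOne)
    (hft : 𝒮.IsFTDeg 1) (F : P.Modules) (hFq : Coh.IsQCoh F) (hFt : CohB1.IsFT F) :
    ∃ n₀ : ℤ, ∀ (n : ℤ), n₀ ≤ n → ∀ (L : P.Modules)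
      (lam : ∀ (U : Y.Opens) (hU : IsAffineOpen U),
      L ⟶ (Scheme.Modules.pushforward (RelProj.emb p chart U hU)).obj (GrTwist.twist (𝒮.deg U hU) (-n))),
      RelProj.IsRelTwist 𝒮 p chart (-n) L lam →
        ∃ (G : Y.Modules) (π : CohB1.tensorMod ((Scheme.Modules.pullback p).obj G) L ⟶ F),
          Coh.IsQCoh G ∧ CohB1.IsFT G ∧ Epi π := by
  haveI hc : CompactSpace Y := by
    rcases hY with h | h
    · exact h.1
    · exact inferInstance
  haveI hqs : QuasiSeparatedSpace Y := by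
    rcases hY with ⟨_, h⟩ | h
    · have := h
      infer_instance
    · exact ⟨fun U V _ _ _ _ => TopologicalSpace.NoetherianSpace.isCompact _⟩
  obtain ⟨O1, lam1, h1⟩ := Datum.exists_isTilde (D := Datum.self 𝒮) (n := (1 : ℤ)) hP
  have hA := isRelAmple_twist_one hgen hft h1
  haveI : IsSeparated p := TMul.isSeparated_of_isRelAmple hA
  haveI := quasiCompact_one (chart := chart) hgen hft
  obtain ⟨n₀, hn₀⟩ := exists_epi_counit hP hgen hft F hFq hFt
  refine ⟨max n₀ 0, fun n hn L lam hL => ?_⟩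
  obtain ⟨M, lamM, hM⟩ := Datum.exists_isTilde (D := Datum.self 𝒮) (n := n) hP
  have hepi := hn₀ n (le_trans (le_max_left _ _) hn) M lamM ((RelTilde.isRelTwist_iff 𝒮 n M lamM).mpr hM)
  have hMinv : PicF.IsInvertible M := RelTilde.isInvertible_of_isGenDegOne hM hgen
  haveI : F.IsQuasicoherent := hFq
  haveI : (CohB1.tensorMod F M).IsQuasicoherent := TMul.isQCoh_tensor hMinv
  obtain ⟨G, φ, hGq, hGt, hφ⟩ := TMul.exists_ft_quotient p (TMul.isFT_tensor hMinv hFt) hepi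
  haveI := hφ
  obtain ⟨Z, lamZ, hZ⟩ := Datum.exists_isTilde (D := Datum.self 𝒮) (n := (0 : ℤ)) hP
  obtain ⟨e0⟩ := nonempty_twistZero_iso hP hZ
  obtain ⟨e1⟩ := nonempty_tensor_iso hP (show n + -n = 0 by omega) hM
    ((RelTilde.isRelTwist_iff 𝒮 (-n) L lam).mp hL) hZ hgen
  let A := (Scheme.Modules.pullback p).obj G
  obtain ⟨β, hβ⟩ := ResDesc.exists_tensorEpi L φ
  haveI := hβ
  let e : CohB1.tensorMod (CohB1.tensorMod F M) L ≅ F :=
    TMul.assocIso F M L ≪≫ PicGrp.tensorModIso (Iso.refl F) (e1 ≪≫ e0) ≪≫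
      TMul.commIso F _ ≪≫ TMul.leftUnitIso F
  exact ⟨G, (TMul.commIso A L).hom ≫ β ≫ (TMul.commIso L _).hom ≫ e.hom, hGq, hGt, inferInstance⟩

end Groth.Agent.RelTwistAmple
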